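import Cfsg.Agent.Lib.U62Cent.Code2

/-!
The inner part of the centraliser is intrinsic to a commuting pair of conjugates: an element is outer
exactly when it fixes exactly one of the three other conjugates on the same line.
-/

set_option autoImplicit false
set_option maxRecDepth 100000

namespace CfsgLib.U62Cent

open CfsgLib.Spor.U62 (kOf kCode kOf_code)
open Matrix

universe u

/-- The short orbit determined by a commuting pair of conjugates. -/
def Third {G : Type u} [Group G] (z a b y : G) : Prop :=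
  IsConj z y ∧ Commute y a ∧ Commute y b ∧ y ≠ a ∧ y ≠ b ∧
    {y' : G | ∃ g : G, Commute g a ∧ Commute g b ∧ g * y * g⁻¹ = y'}.ncard ≤ 3

/-- Exactly one member of the short orbit is fixed. -/
def OneFix {G : Type u} [Group G] (z a b h : G) : Prop :=
  ∃! y, Third z a b y ∧ Commute h y

variable {G : Type u} [Group G] {z : G}

theorem commute_conj_iff (g a b : G) : Commute (g * a * g⁻¹) (g * b * g⁻¹) ↔ Commute a b :=
  ⟨fun h => (MulAut.conj g).injective (by rw [map_mul, map_mul]; exact h.eq),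
    fun h => h.map (MulAut.conj g).toMonoidHom⟩

theorem Third.conj {a b y : G} (h : Third z a b y) (g : G) :
    Third z (g * a * g⁻¹) (g * b * g⁻¹) (g * y * g⁻¹) := by
  obtain ⟨h1, h2, h3, h4, h5, h6⟩ := h
  refine ⟨h1.trans (isConj_iff.2 ⟨g, rfl⟩), (commute_conj_iff g y a).2 h2,
    (commute_conj_iff g y b).2 h3, fun e => h4 (mul_left_cancel (mul_right_cancel e)),
    fun e => h5 (mul_left_cancel (mul_right_cancel e)), le_trans (le_of_eq ?_) h6⟩
  rw [← Set.ncard_image_of_injective {y' : G | ∃ k : G,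
    Commute k a ∧ Commute k b ∧ k * y * k⁻¹ = y'} (MulAut.conj g).injective]
  congr 1
  ext t
  constructor
  · rintro ⟨k, ka, kb, rfl⟩
    refine ⟨g⁻¹ * k * g * y * (g⁻¹ * k * g)⁻¹, ⟨g⁻¹ * k * g, ?_, ?_, rfl⟩, ?_⟩
    · exact (commute_conj_iff g _ _).1 (by
        rwa [show g * (g⁻¹ * k * g) * g⁻¹ = k by group])
    · exact (commute_conj_iff g _ _).1 (by
        rwa [show g * (g⁻¹ * k * g) * g⁻¹ = k by group])
    · simp only [MulAut.conj_apply]
      group
  · rintro ⟨_, ⟨k, ka, kb, rfl⟩, rfl⟩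
    refine ⟨g * k * g⁻¹, (commute_conj_iff g k a).2 ka, (commute_conj_iff g k b).2 kb, ?_⟩
    simp only [MulAut.conj_apply]
    group

theorem OneFix.conj {a b h : G} (e : OneFix z a b h) (g : G) :
    OneFix z (g * a * g⁻¹) (g * b * g⁻¹) (g * h * g⁻¹) := by
  obtain ⟨y, ⟨h1, h2⟩, hu⟩ := e
  refine ⟨g * y * g⁻¹, ⟨h1.conj g, (commute_conj_iff g h y).2 h2⟩, fun t ht => ?_⟩
  have h3 := ht.1.conj g⁻¹
  rw [inv_inv, show g⁻¹ * (g * a * g⁻¹) * g = a by group,
    show g⁻¹ * (g * b * g⁻¹) * g = b by group] at h3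
  have h4 := hu (g⁻¹ * t * g) ⟨h3, (commute_conj_iff g _ _).1 (by
    rw [show g * (g⁻¹ * t * g) * g⁻¹ = t by group]; exact ht.2)⟩
  rw [← h4]
  group

theorem oneFix_conj_iff {a b h : G} (g : G) :
    OneFix z (g * a * g⁻¹) (g * b * g⁻¹) (g * h * g⁻¹) ↔ OneFix z a b h := by
  refine ⟨fun e => ?_, fun e => e.conj g⟩
  simpa [mul_assoc] using e.conj g⁻¹

theorem third_comm {a b y : G} : Third z a b y ↔ Third z b a y := by
  suffices ∀ a b, Third z a b y → Third z b a y from ⟨this a b, this b a⟩
  rintro a b ⟨h1, h2, h3, h4, h5, h6⟩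
  refine ⟨h1, h3, h2, h5, h4, le_trans (le_of_eq (congrArg Set.ncard ?_)) h6⟩
  ext t
  exact exists_congr fun k => and_left_comm

theorem oneFix_comm {a b h : G} : OneFix z a b h ↔ OneFix z b a h :=
  existsUnique_congr fun y => and_congr_left fun _ => third_comm

/-- the points orthogonal to the base point -/
def perpL : List ℕ := (List.range 256).filter fun p => hC4 p p == 0 && hC4 p x₀C == 0

/-- a transvection commuting with the base one is the base one or has four images -/
theorem orbit_check : ∀ c < 256, c ≠ 0 → hC4 c c = 0 →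
    mulM (tM c) (tM x₀C) = mulM (tM x₀C) (tM c) →
    tM c = tM x₀C ∨ 4 ≤ ((perpL.map fun p => tM (tC4 p c)).dedup).length := by
  decide +kernel

theorem x₀_iso : hf x₀ x₀ = 0 := by decide +kernel

theorem tv_eq_of_tM {x y : V4} (hx : hf x x = 0) (hy : hf y y = 0) :
    (∀ v, tv x v = tv y v) ↔ tM (vc4 x) = tM (vc4 y) := by
  constructor
  · intro h
    rw [← cd4_tvU x hx, ← cd4_tvU y hy, mat4_ext (g := tvU x hx) (h := tvU y hy) fun v => by
      rw [mat4_tvU, mat4_tvU, h]]
  · intro h v
    rw [← cd4_tvU x hx, ← cd4_tvU y hy] at h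
    rw [← mat4_tvU x hx, ← mat4_tvU y hy, cd4_injective h]

theorem eq_of_smul_x₀ {a b : K4} (h : a • x₀ = b • x₀) : a = b := by
  simpa [x₀] using congrFun h 0

variable {P : Hyp z} (M : Nat4 P)

theorem act_mul_apply (a b : Subgroup.centralizer ({z} : Set G)) (v : V4) :
    M.act (a * b) v = M.act a (M.act b v) := by rw [map_mul]; rfl

theorem act_injective (a : Subgroup.centralizer ({z} : Set G)) : Function.Injective (M.act a) := by
  intro u v h
  have := congrArg (M.act a⁻¹) h
  rw [← act_mul_apply, ← act_mul_apply, inv_mul_cancel, map_one] at this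
  exact this

theorem act_of_mem_J {j : Subgroup.centralizer ({z} : Set G)} (hj : j ∈ P.J) (v : V4) :
    M.act j v = v := by rw [(M.ker_act j).2 hj]; rfl

theorem act_conj_tv {w a : Subgroup.centralizer ({z} : Set G)} (ha : a ∈ P.H₁) {x : V4}
    (hw : ∀ v, M.act w v = tv x v) (v : V4) :
    M.act (a * w * a⁻¹) v = tv (M.act a x) v := by
  obtain ⟨g, hg, hga⟩ := M.lin a ha
  have hv : v = M.act a (M.act a⁻¹ v) := by
    rw [← act_mul_apply, mul_inv_cancel, map_one]; rfl
  conv_rhs => rw [hv]
  rw [act_mul_apply, act_mul_apply, hw]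
  simp only [tv, hga, mulVec_add, mulVec_smul]
  rw [show hf ((g : Matrix (Fin 4) (Fin 4) K4) *ᵥ M.act a⁻¹ v)
    ((g : Matrix (Fin 4) (Fin 4) K4) *ᵥ x) = hf (M.act a⁻¹ v) x from hg _ _]

variable (F : Fused M)

/-- The translation part of an element of `J` at the base point. -/
def phi (a : P.J) : K4 := hf (M.vec a) x₀

theorem phi_mul (a b : P.J) : phi M (a * b) = phi M a + phi M b := by
  rw [phi, M.vec_mul, hf_add_left]; rfl

theorem phi_surj (c : K4) : ∃ a : P.J, phi M a = c := by
  obtain ⟨a, ha⟩ := M.vec_surj (c • ![1, 0, 0, 0])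
  refine ⟨a, ?_⟩
  rw [phi, ha, hf_smul_left, show hf ![1, 0, 0, 0] x₀ = 1 by decide +kernel, mul_one]

include F

theorem commute_w_iff (a : P.J) :
    Commute (a : Subgroup.centralizer ({z} : Set G)) F.w ↔ phi M a = 0 := by
  refine ⟨fun h => ?_, fun h => F.cent_R a h⟩
  have h1 : MulAut.conjNormal F.w a = a := Subtype.ext (by
    rw [MulAut.conjNormal_apply, ← h.eq, mul_inv_cancel_right])
  have h2 := M.vec_conj F.w a
  rw [h1, F.w_act, tv, left_eq_add] at h2
  exact eq_of_smul_x₀ (h2.trans (zero_smul K4 x₀).symm)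

theorem conj_w_eq_iff (a b : P.J) :
    (a : Subgroup.centralizer ({z} : Set G)) * F.w * (a : Subgroup.centralizer ({z} : Set G))⁻¹ =
      (b : Subgroup.centralizer ({z} : Set G)) * F.w * (b : Subgroup.centralizer ({z} : Set G))⁻¹ ↔
      phi M a = phi M b := by
  have h0 : phi M (b⁻¹ * a) = 0 ↔ phi M a = phi M b := by
    have h := phi_mul M b (b⁻¹ * a)
    rw [mul_inv_cancel_left] at h
    constructor <;> intro e
    · rw [h, e, add_zero]
    · rw [e] at h; exact left_eq_add.1 h
  rw [← h0, ← commute_w_iff M F, commute_iff_eq, Subgroup.coe_mul, InvMemClass.coe_inv]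
  constructor <;> intro e
  · calc _ = (b : Subgroup.centralizer ({z} : Set G))⁻¹ *
        ((a : Subgroup.centralizer ({z} : Set G)) * F.w * (a : Subgroup.centralizer ({z} : Set G))⁻¹) *
          a := by group
      _ = _ := by rw [e]; group
  · calc _ = (b : Subgroup.centralizer ({z} : Set G)) * ((b : Subgroup.centralizer ({z} : Set G))⁻¹ *
        a * F.w) * (a : Subgroup.centralizer ({z} : Set G))⁻¹ := by group
      _ = _ := by rw [e]; group

theorem w_ne (a : Subgroup.centralizer ({z} : Set G)) :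
    ((a * F.w * a⁻¹ : Subgroup.centralizer ({z} : Set G)) : G) ≠ z := by
  intro h
  have h1 : a * F.w * a⁻¹ = zC z := Subtype.ext h
  have h2 : F.w = zC z := by
    have hc : Commute a⁻¹ (zC z) := Subtype.ext (Subgroup.mem_centralizer_singleton_iff.1 a⁻¹.2)
    calc F.w = a⁻¹ * (a * F.w * a⁻¹) * a := by group
      _ = zC z := by rw [h1, hc.eq, inv_mul_cancel_right]
  have h3 := F.w_act ![1, 0, 0, 0]
  rw [h2, act_of_mem_J M P.xc.mem] at h3
  exact absurd h3 (by decide +kernel)

theorem third_iff [Finite G] (y : G) :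
    Third z z (F.w : G) y ↔ ∃ a : P.J, phi M a ≠ 0 ∧
      (((a : Subgroup.centralizer ({z} : Set G)) * F.w *
        (a : Subgroup.centralizer ({z} : Set G))⁻¹ : Subgroup.centralizer ({z} : Set G)) : G) = y := by
  constructor
  · rintro ⟨hy, hyz, hyw, hne, hnew, horb⟩
    obtain ⟨a, ha, hya⟩ := F.one_class ⟨y, Subgroup.mem_centralizer_singleton_iff.2 hyz.eq⟩ hy hne
    obtain ⟨g, hg, hga⟩ := M.lin a ha
    set x := M.act a x₀ with hx
    have hxi : hf x x = 0 := by
      rw [hx, M.act_norm]; exact x₀_iso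
    have hx0 : vc4 x ≠ 0 := fun e => by
      have e1 : x = 0 := vc4_inj (e.trans (by decide +kernel))
      have e2 : x₀ = 0 := act_injective M a (e1.trans (map_zero _).symm)
      exact absurd e2 (by decide +kernel)
    have hyact : ∀ v, M.act (a * F.w * a⁻¹) v = tv x v := act_conj_tv M ha F.w_act
    have hcomm : Commute (a * F.w * a⁻¹) F.w := by
      rw [← hya]; exact Subtype.ext hyw.eq
    have hcode : mulM (tM (vc4 x)) (tM x₀C) = mulM (tM x₀C) (tM (vc4 x)) := by
      rw [← x₀_code, ← cd4_tvU x hxi, ← cd4_tvU x₀ x₀_iso, ← cd4_mul, ← cd4_mul]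
      refine congrArg cd4 (mat4_ext fun v => ?_)
      rw [map_mul mat4, map_mul mat4, ← mulVec_mulVec, ← mulVec_mulVec]
      simp only [mat4_tvU]
      simp only [← hyact, ← F.w_act]
      rw [← act_mul_apply, ← act_mul_apply, hcomm.eq]
    rcases orbit_check _ (vc4_lt x) hx0 (hf_zero_iff.1 hxi) hcode with e | e
    · rw [← x₀_code, ← tv_eq_of_tM hxi x₀_iso] at e
      obtain ⟨j, hj, hjw⟩ := F.stab a ha fun v => by
        rw [← F.w_act, ← act_mul_apply, show a * F.w = a * F.w * a⁻¹ * a by group, act_mul_apply,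
          hyact, e]
      let k := a * j
      refine ⟨⟨k * j⁻¹ * k⁻¹, P.normJ.conj_mem _ (inv_mem hj) k⟩, ?_, ?_⟩
      · intro h0
        refine hnew ?_
        have h1 := ((commute_w_iff M F _).2 h0).eq
        have h2 : a * F.w * a⁻¹ = F.w := by
          have hk : k * F.w = F.w * k := hjw
          calc a * F.w * a⁻¹ = (k * j⁻¹ * k⁻¹) * (k * F.w) * k⁻¹ * (k * j⁻¹ * k⁻¹)⁻¹ := by
                simp only [k]; group
            _ = (k * j⁻¹ * k⁻¹) * F.w * (k * j⁻¹ * k⁻¹)⁻¹ := by rw [hk]; group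
            _ = F.w := by rw [h1, mul_inv_cancel_right]
        exact congrArg Subtype.val (hya.trans h2)
      · refine congrArg Subtype.val (Eq.trans ?_ hya.symm)
        have hk : k * F.w = F.w * k := hjw
        symm
        calc a * F.w * a⁻¹ = (k * j⁻¹ * k⁻¹) * (k * F.w) * k⁻¹ * (k * j⁻¹ * k⁻¹)⁻¹ := by
              simp only [k]; group
          _ = (k * j⁻¹ * k⁻¹) * F.w * (k * j⁻¹ * k⁻¹)⁻¹ := by rw [hk]; group
    · exfalso
      classical
      set L := ((perpL.map fun p => tM (tC4 p (vc4 x))).dedup) with hL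
      have hS : ∀ k ∈ L, ∃ t : Subgroup.centralizer ({z} : Set G),
          (t : G) ∈ {y' : G | ∃ g : G, Commute g z ∧ Commute g (F.w : G) ∧ g * y * g⁻¹ = y'} ∧
            ∃ (x' : V4) (_ : hf x' x' = 0), tM (vc4 x') = k ∧ ∀ v, M.act t v = tv x' v := by
        intro k hk
        rw [hL, List.mem_dedup, List.mem_map] at hk
        obtain ⟨p, hp, rfl⟩ := hk
        simp only [perpL, List.mem_filter, List.mem_range, Bool.and_eq_true, beq_iff_eq] at hp
        obtain ⟨hp256, hpp, hpx⟩ := hp
        have hP : hf (vo4 p) (vo4 p) = 0 := hf_zero_iff.2 (by rw [vc4_vo4 p hp256]; exact hpp)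
        have hPx : hf x₀ (vo4 p) = 0 := by
          rw [hf_swap, hf_zero_iff.2 (show hC4 (vc4 (vo4 p)) (vc4 x₀) = 0 by
            rw [vc4_vo4 p hp256, x₀_code]; exact hpx), sq, zero_mul]
        obtain ⟨h, hh, hhact⟩ := M.lift _ (tvU (vo4 p) hP).2
        have hhtv : ∀ v, M.act h v = tv (vo4 p) v := fun v => (hhact v).trans (mat4_tvU _ hP v)
        have hfix : M.act h x₀ = x₀ := by rw [hhtv, tv, hPx, zero_smul, add_zero]
        obtain ⟨j, hj, hjw⟩ := F.stab h hh fun v => by
          rw [← F.w_act, ← act_mul_apply, show h * F.w = h * F.w * h⁻¹ * h by group, act_mul_apply,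
            act_conj_tv M hh F.w_act, hfix]
        refine ⟨h * j * (a * F.w * a⁻¹) * (h * j)⁻¹, ⟨(h * j : Subgroup.centralizer ({z} : Set G)),
          Subgroup.mem_centralizer_singleton_iff.1 (h * j).2,
          congrArg Subtype.val (show (h * j) * F.w = F.w * (h * j) from hjw), ?_⟩,
          tv (vo4 p) x, ?_, by rw [vc4_tv, vc4_vo4 p hp256], fun v => ?_⟩
        · rw [← hya]; rfl
        · rw [tv_isom hP]; exact hxi
        · rw [act_conj_tv M (mul_mem hh (P.le hj)) hyact]
          rw [act_mul_apply, act_of_mem_J M hj, hhtv]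
      choose! f hf1 x' hx' hx'k hact using hS
      have h4 : L.toFinset.card ≤ {y' : G | ∃ g : G, Commute g z ∧ Commute g (F.w : G) ∧
          g * y * g⁻¹ = y'}.ncard := by
        rw [← Set.ncard_coe_finset]
        refine Set.ncard_le_ncard_of_injOn (fun k => (f k : G)) (fun k hk => hf1 k ?_)
          (fun k hk k' hk' he => ?_) (Set.toFinite _)
        · simpa using hk
        · have hk1 : k ∈ L := by simpa using hk
          have hk2 : k' ∈ L := by simpa using hk'
          rw [← hx'k k hk1, ← hx'k k' hk2, ← tv_eq_of_tM (hx' k hk1) (hx' k' hk2)]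
          intro v
          rw [← hact k hk1, ← hact k' hk2, Subtype.ext he]
      rw [List.toFinset_card_of_nodup (l := L) (List.nodup_dedup _)] at h4
      omega
  · rintro ⟨a, ha, rfl⟩
    set A := (a : Subgroup.centralizer ({z} : Set G)) with hA
    refine ⟨F.w_conj.trans (isConj_iff.2 ⟨(A : G), by simp⟩),
      Subgroup.mem_centralizer_singleton_iff.1 (A * F.w * A⁻¹).2, ?_, w_ne M F A, ?_, ?_⟩
    · set b : P.J := a * MulAut.conjNormal F.w a⁻¹ with hb
      have hb' : A * F.w * A⁻¹ = (b : Subgroup.centralizer ({z} : Set G)) * F.w := by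
        rw [hb, Subgroup.coe_mul, MulAut.conjNormal_apply, InvMemClass.coe_inv]
        simp only [hA]; group
      have hneg : phi M a⁻¹ = phi M a := by
        have h := phi_mul M a a⁻¹
        have h1 := phi_mul M 1 1
        rw [mul_inv_cancel] at h
        rw [mul_one, left_eq_add] at h1
        rw [h1] at h
        have h2 : (2 : K4) = 0 := by decide +kernel
        linear_combination h.symm - (phi M a) * h2
      have hphib : phi M b = 0 := by
        rw [hb, phi_mul]
        show phi M a + hf (M.vec (MulAut.conjNormal F.w a⁻¹)) x₀ = 0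
        rw [M.vec_conj, F.w_act, tv, hf_add_left, hf_smul_left, x₀_iso, mul_zero, add_zero]
        show phi M a + phi M a⁻¹ = 0
        rw [hneg]
        have h2 : (2 : K4) = 0 := by decide +kernel
        linear_combination (phi M a) * h2
      have hc : Commute (b : Subgroup.centralizer ({z} : Set G)) F.w := F.cent_R b hphib
      show Commute ((A * F.w * A⁻¹ : Subgroup.centralizer ({z} : Set G)) : G) (F.w : G)
      rw [hb']
      exact congrArg Subtype.val (show _ * F.w = F.w * _ from (hc.mul_left (Commute.refl _)).eq)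
    · intro e
      refine ha ?_
      have h1 : phi M (1 : P.J) = 0 := by
        have h := phi_mul M 1 1
        rwa [mul_one, left_eq_add] at h
      rw [← h1, ← conj_w_eq_iff M F]
      exact Subtype.ext (by rw [e]; simp)
    · classical
      let T : K4 → G := fun c => (((phi_surj M c).choose : Subgroup.centralizer ({z} : Set G)) * F.w *
        ((phi_surj M c).choose : Subgroup.centralizer ({z} : Set G))⁻¹ :
          Subgroup.centralizer ({z} : Set G))
      haveI : Fintype K4 := Fintype.ofFinite _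
      refine (Set.ncard_le_ncard (t := T '' {c : K4 | c ≠ 0}) ?_ (Set.toFinite _)).trans
        ((Set.ncard_image_le (Set.toFinite _)).trans ?_)
      · rintro _ ⟨g, hgz, hgw, rfl⟩
        let g' : Subgroup.centralizer ({z} : Set G) :=
          ⟨g, Subgroup.mem_centralizer_singleton_iff.2 hgz.eq⟩
        have hgw' : Commute g' F.w := Subtype.ext hgw.eq
        refine ⟨phi M (MulAut.conjNormal g' a), ?_, ?_⟩
        · intro h0
          refine ha ((commute_w_iff M F a).1 ?_)
          have h1 := (commute_w_iff M F _).2 h0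
          rw [MulAut.conjNormal_apply] at h1
          have h2 : g' * F.w * g'⁻¹ = F.w := by rw [hgw'.eq, mul_inv_cancel_right]
          rw [← h2] at h1
          exact (commute_conj_iff g' A F.w).1 h1
        · show _ = ((g' * (A * F.w * A⁻¹) * g'⁻¹ : Subgroup.centralizer ({z} : Set G)) : G)
          refine congrArg Subtype.val (((conj_w_eq_iff M F _ (MulAut.conjNormal g' a)).2
            (phi_surj M _).choose_spec).trans ?_)
          rw [MulAut.conjNormal_apply]
          calc g' * A * g'⁻¹ * F.w * (g' * A * g'⁻¹)⁻¹ = g' * A * (g'⁻¹ * F.w) * g' * A⁻¹ * g'⁻¹ := by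
                group
            _ = g' * A * (F.w * g'⁻¹) * g' * A⁻¹ * g'⁻¹ := by rw [hgw'.inv_left.eq]
            _ = g' * (A * F.w * A⁻¹) * g'⁻¹ := by group
      · rw [show {c : K4 | c ≠ 0} = ({0} : Set K4)ᶜ from rfl, Set.ncard_compl, Set.ncard_singleton,
          Spor.U62.card_K4]

/-- Outer elements fix exactly one of the three. -/
theorem oneFix_w_iff [Finite G] (h : Subgroup.centralizer ({z} : Set G)) (hw : Commute h F.w) :
    OneFix z z (F.w : G) (h : G) ↔ h ∉ P.H₁ := by
  set μ : K4 := phi M (MulAut.conjNormal h (phi_surj M 1).choose) with hμ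
  have hphi : ∀ a : P.J, M.act h (phi M a • x₀) = phi M (MulAut.conjNormal h a) • x₀ := by
    intro a
    have h1 : M.act h (tv x₀ (M.vec a)) = tv x₀ (M.act h (M.vec a)) := by
      rw [← F.w_act, ← F.w_act, ← act_mul_apply, ← act_mul_apply, hw.eq]
    rw [tv, tv, map_add, ← M.vec_conj] at h1
    exact add_left_cancel h1
  have hx : M.act h x₀ = μ • x₀ := by
    have := hphi (phi_surj M 1).choose
    rwa [(phi_surj M 1).choose_spec, one_smul] at this
  have hμ0 : μ ≠ 0 := fun e => by
    rw [e, zero_smul] at hx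
    exact absurd (act_injective M h (hx.trans (map_zero _).symm)) (by decide +kernel)
  have hfix : ∀ a : P.J, Commute (h : G) (((a : Subgroup.centralizer ({z} : Set G)) * F.w *
      (a : Subgroup.centralizer ({z} : Set G))⁻¹ : Subgroup.centralizer ({z} : Set G)) : G) ↔
      phi M (MulAut.conjNormal h a) = phi M a := by
    intro a
    rw [← conj_w_eq_iff M F, MulAut.conjNormal_apply]
    set A := (a : Subgroup.centralizer ({z} : Set G))
    have h2 : h * A * h⁻¹ * F.w * (h * A * h⁻¹)⁻¹ = h * (A * F.w * A⁻¹) * h⁻¹ := by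
      calc _ = h * A * (h⁻¹ * F.w) * h * A⁻¹ * h⁻¹ := by group
        _ = h * A * (F.w * h⁻¹) * h * A⁻¹ * h⁻¹ := by rw [hw.inv_left.eq]
        _ = _ := by group
    rw [h2, mul_inv_eq_iff_eq_mul]
    exact ⟨fun e => Subtype.ext e.eq, fun e => congrArg Subtype.val e⟩
  constructor
  · rintro ⟨y, ⟨hy, hyc⟩, huniq⟩ hin
    obtain ⟨a, ha, rfl⟩ := (third_iff M F y).1 hy
    obtain ⟨g, -, hga⟩ := M.lin h hin
    have hmul : ∀ b : P.J, phi M (MulAut.conjNormal h b) = phi M b * μ := fun b =>
      eq_of_smul_x₀ (by rw [← hphi, hga, mulVec_smul, ← hga, hx, smul_smul])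
    have hμ1 : μ = 1 := by
      have h1 := (hfix a).1 hyc
      rw [hmul] at h1
      exact mul_left_cancel₀ ha (by rw [mul_one]; exact h1)
    obtain ⟨c, hc0, hca⟩ : ∃ c : K4, c ≠ 0 ∧ c ≠ phi M a := by
      rcases eq_or_ne (phi M a) 1 with e | e
      · exact ⟨kOf 2, by decide +kernel, by rw [e]; decide +kernel⟩
      · exact ⟨1, one_ne_zero, e.symm⟩
    obtain ⟨b, rfl⟩ := phi_surj M c
    have := huniq _ ⟨(third_iff M F _).2 ⟨b, hc0, rfl⟩, (hfix b).2 (by rw [hmul, hμ1, mul_one])⟩
    exact hca ((conj_w_eq_iff M F b a).1 (Subtype.ext this))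
  · intro hout
    have hmul : ∀ b : P.J, phi M (MulAut.conjNormal h b) = phi M b ^ 2 * μ := fun b =>
      eq_of_smul_x₀ (by rw [← hphi, M.semi h hout, hx, smul_smul])
    obtain ⟨a, ha⟩ := phi_surj M μ⁻¹
    refine ⟨_, ⟨(third_iff M F _).2 ⟨a, by rw [ha]; exact inv_ne_zero hμ0, rfl⟩,
      (hfix a).2 (by rw [hmul, ha, sq, mul_assoc, inv_mul_cancel₀ hμ0, mul_one])⟩, ?_⟩
    rintro t ⟨ht, htc⟩
    obtain ⟨b, hb, rfl⟩ := (third_iff M F t).1 ht
    refine congrArg Subtype.val ((conj_w_eq_iff M F b a).2 ?_)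
    have h1 := (hfix b).1 htc
    rw [hmul, sq, mul_assoc] at h1
    have h2 : phi M b * μ = 1 := mul_left_cancel₀ hb (by rw [mul_one]; exact h1)
    rw [ha]
    exact eq_inv_of_mul_eq_one_left h2

/-- The criterion at any conjugate. -/
theorem oneFix_iff [Finite G] (h : Subgroup.centralizer ({z} : Set G)) {d : G} (hd : IsConj z d)
    (hdz : Commute d z) (hne : d ≠ z) (hc : Commute (h : G) d) :
    OneFix z z d (h : G) ↔ h ∉ P.H₁ := by
  obtain ⟨a, ha, e⟩ := F.one_class ⟨d, Subgroup.mem_centralizer_singleton_iff.2 hdz.eq⟩ hd hne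
  have hde : (a : G) * (F.w : G) * (a : G)⁻¹ = d := congrArg Subtype.val e.symm
  set k := a⁻¹ * h * a with hk
  have hkw : Commute k F.w := Subtype.ext (((commute_conj_iff (a : G) (k : G) (F.w : G)).1 (by
    rw [hde, show (a : G) * (k : G) * (a : G)⁻¹ = (h : G) by simp [hk, mul_assoc]]; exact hc)).eq)
  have hza : (a : G) * z * (a : G)⁻¹ = z := by
    rw [Subgroup.mem_centralizer_singleton_iff.1 a.2, mul_inv_cancel_right]
  have := oneFix_conj_iff (z := z) (a := z) (b := (F.w : G)) (h := (k : G)) (a : G)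
  rw [hde, hza, show (a : G) * (k : G) * (a : G)⁻¹ = (h : G) by simp [hk, mul_assoc],
    oneFix_w_iff M F k hkw] at this
  refine this.trans (not_congr ?_)
  rw [hk, mul_assoc]
  exact ⟨fun e1 => by simpa using P.normH.conj_mem _ e1 a, fun e1 => by
    simpa [mul_assoc] using P.normH.conj_mem _ e1 a⁻¹⟩

end CfsgLib.U62Cent
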