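import Cfsg.Agent.Lib.U62Cent.Outer.Transfer
import Cfsg.Agent.Lib.U62Cent.Outer.Fix
import Cfsg.Agent.Lib.U62Cent.Base
import Cfsg.Agent.Lib.U62Cent.Targets

/-!
Piece E of S3230/S3231: a subgroup of index two cutting out the inner part of the centraliser.
-/

set_option autoImplicit false

namespace CfsgLib.U62Cent

universe u

theorem outerStmt : OuterStmt.{u} := by
  intro G _ _ z P M F hidx
  have hz : z * z = 1 := congrArg Subtype.val P.xc.inv
  refine exists_index_two_inf hz P.H₁ hidx P.odd_index fun g h h' e hc => ?_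
  have hh' : (h' : G) * z = z * h' := comm_z h'
  by_cases hd : g * z * g⁻¹ = z
  · have hg : g ∈ Subgroup.centralizer ({z} : Set G) :=
      Subgroup.mem_centralizer_singleton_iff.2 (mul_inv_eq_iff_eq_mul.1 hd)
    have he : h' = (⟨g, hg⟩ : Cz z)⁻¹ * h * ⟨g, hg⟩ := Subtype.ext e
    refine ⟨fun hm => ?_, fun hm => ?_⟩
    · have := P.normH.conj_mem _ hm ⟨g, hg⟩
      rw [he] at this
      simpa [mul_assoc] using this
    · have := P.normH.conj_mem _ hm (⟨g, hg⟩ : Cz z)⁻¹
      rw [he]
      simpa [mul_assoc] using this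
  · have hcd : Commute (h : G) (g * z * g⁻¹) := by
      show (h : G) * (g * z * g⁻¹) = g * z * g⁻¹ * h
      calc (h : G) * (g * z * g⁻¹) = g * ((h' : G) * z) * g⁻¹ := by rw [e]; group
        _ = g * (z * (h' : G)) * g⁻¹ := by rw [hh']
        _ = _ := by rw [e]; group
    have h1 := oneFix_iff M F h (isConj_iff.2 ⟨g, rfl⟩) hc.symm hd hcd
    have hd0 : Commute (g⁻¹ * z * g) z := by
      apply (commute_conj_iff g _ _).1
      rwa [show g * (g⁻¹ * z * g) * g⁻¹ = z by group]
    have hne : g⁻¹ * z * g ≠ z := fun e' => hd (by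
      conv_lhs => rw [← e']
      group)
    have hc' : Commute (h' : G) (g⁻¹ * z * g) := by
      apply (commute_conj_iff g _ _).1
      rw [e, show g * (g⁻¹ * z * g) * g⁻¹ = z by group,
        show g * (g⁻¹ * (h : G) * g) * g⁻¹ = (h : G) by group]
      exact comm_z h
    have h2 := oneFix_iff M F h' (isConj_iff.2 ⟨g⁻¹, by rw [inv_inv]⟩) hd0 hne hc'
    have h3 := oneFix_conj_iff (z := z) (a := z) (b := g⁻¹ * z * g) (h := (h' : G)) g
    rw [show g * (g⁻¹ * z * g) * g⁻¹ = z by group,
      show g * (h' : G) * g⁻¹ = (h : G) by rw [e]; group, oneFix_comm, h1, h2] at h3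
    exact not_iff_not.1 h3.symm

end CfsgLib.U62Cent
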