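import Mathlib

/-!
A transfer argument: a subgroup of index two in an involution centraliser of odd index is cut out by a
subgroup of index two of the whole group, when it is intrinsic to commuting pairs of conjugates.
-/

set_option autoImplicit false

namespace CfsgLib.U62Cent

open MulAction Function Subgroup

variable {G : Type*} [Group G]

/-- The value of a transfer at an orbit representative. -/
noncomputable def orbitVal {A : Type*} [CommGroup A] {C : Subgroup G} (χ : C →* A) (x g : G) : A :=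
  χ ⟨g⁻¹ * x ^ minimalPeriod (x • ·) ((g : G) : G ⧸ C) * g, by
    rw [mul_assoc, ← QuotientGroup.eq]
    exact ((pow_smul_eq_iff_minimalPeriod_dvd (a := x) (b := ((g : G) : G ⧸ C))).2 dvd_rfl).symm⟩

section Val

variable {A : Type*} [CommGroup A] {C : Subgroup G} (χ : C →* A)

theorem minimalPeriod_commute_smul {x c : G} (h : Commute x c) (p : G ⧸ C) :
    minimalPeriod (x • ·) (c • p) = minimalPeriod (x • ·) p := by
  have hn : ∀ n : ℕ, x ^ n • (c • p) = c • p ↔ x ^ n • p = p := fun n => by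
    rw [smul_smul, (h.pow_left n).eq, ← smul_smul, smul_left_cancel_iff]
  exact Nat.dvd_antisymm (pow_smul_eq_iff_minimalPeriod_dvd.1 ((hn _).2
    (pow_smul_eq_iff_minimalPeriod_dvd.2 dvd_rfl))) (pow_smul_eq_iff_minimalPeriod_dvd.1 ((hn _).1
    (pow_smul_eq_iff_minimalPeriod_dvd.2 dvd_rfl)))

theorem orbitVal_mul {x c g h : G} (hc : Commute x c) (hh : h ∈ C) :
    orbitVal χ x (c * g * h) = orbitVal χ x g := by
  have hp : ((c * g * h : G) : G ⧸ C) = c • ((g : G) : G ⧸ C) := by
    rw [QuotientGroup.mk_mul_of_mem _ hh]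
    rfl
  have hn : minimalPeriod (x • ·) ((c * g * h : G) : G ⧸ C) = minimalPeriod (x • ·) ((g : G) : G ⧸ C) := by
    rw [hp, minimalPeriod_commute_smul hc]
  set n := minimalPeriod (x • ·) ((g : G) : G ⧸ C) with hndef
  have hm : g⁻¹ * x ^ n * g ∈ C := by
    rw [hndef, mul_assoc, ← QuotientGroup.eq]
    exact ((pow_smul_eq_iff_minimalPeriod_dvd (a := x) (b := ((g : G) : G ⧸ C))).2 dvd_rfl).symm
  have e : (c * g * h)⁻¹ * x ^ n * (c * g * h) = h⁻¹ * (g⁻¹ * x ^ n * g) * h := by
    have : c⁻¹ * x ^ n * c = x ^ n := by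
      rw [mul_assoc, (hc.pow_left n).eq, inv_mul_cancel_left]
    calc _ = h⁻¹ * (g⁻¹ * (c⁻¹ * x ^ n * c) * g) * h := by group
      _ = _ := by rw [this]
  unfold orbitVal
  calc _ = χ (⟨h, hh⟩⁻¹ * ⟨g⁻¹ * x ^ n * g, hm⟩ * ⟨h, hh⟩) := by
        congr 1
        exact Subtype.ext (by
          show (c * g * h)⁻¹ * x ^ minimalPeriod (x • ·) ((c * g * h : G) : G ⧸ C) * (c * g * h) =
            h⁻¹ * (g⁻¹ * x ^ n * g) * h
          rw [hn]; exact e)
    _ = _ := by
        rw [map_mul, map_mul, map_inv, mul_comm, ← mul_assoc, mul_inv_cancel, one_mul]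

end Val

theorem transfer_eq_self [Finite G] {A : Type*} [CommGroup A] (hA : ∀ a : A, a * a = 1)
    {z : G} (hz : z * z = 1) {C : Subgroup G} (hC : ∀ a, a ∈ C ↔ a * z = z * a) (χ : C →* A)
    (hodd : Odd C.index)
    (key : ∀ (g : G) (h h' : C), (h' : G) = g⁻¹ * (h : G) * g →
      Commute z (g * z * g⁻¹) → χ h' = χ h)
    (x : C) {m : ℕ} (hx : (x : G) ^ 2 ^ m = 1) :
    MonoidHom.transfer χ (x : G) = χ x := by
  classical
  haveI : Fact (Nat.Prime 2) := ⟨Nat.prime_two⟩
  haveI : C.FiniteIndex := ⟨index_ne_zero_of_finite⟩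
  haveI := Fintype.ofFinite (G ⧸ C)
  set y : G := (x : G) with hy
  haveI := Fintype.ofFinite (Quotient (orbitRel (zpowers y) (G ⧸ C)))
  have hxz : Commute y z := (hC _).1 x.2
  have hzz : ∀ p : G ⧸ C, z • z • p = p := fun p => by rw [smul_smul, hz, one_smul]
  have hfix : ∀ g : G, z • ((g : G) : G ⧸ C) = ((g : G) : G ⧸ C) → Commute z (g * z * g⁻¹) := by
    intro g hg
    have h1 : g⁻¹ * z * g ∈ C := by
      rw [mul_assoc, ← QuotientGroup.eq]; exact hg.symm
    have h2 : (g⁻¹ * z * g) * z = z * (g⁻¹ * z * g) := (hC _).1 h1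
    show z * (g * z * g⁻¹) = g * z * g⁻¹ * z
    calc z * (g * z * g⁻¹) = g * ((g⁻¹ * z * g) * z) * g⁻¹ := by group
      _ = g * (z * (g⁻¹ * z * g)) * g⁻¹ := by rw [h2]
      _ = _ := by group
  have hper : ∀ p : G ⧸ C, ∃ k, minimalPeriod (y • ·) p = 2 ^ k := fun p => by
    obtain ⟨k, -, hk⟩ := (Nat.dvd_prime_pow Nat.prime_two).1
      (pow_smul_eq_iff_minimalPeriod_dvd.1 (show y ^ 2 ^ m • p = p by rw [hx, one_smul]))
    exact ⟨k, hk⟩
  let σ : Quotient (orbitRel (zpowers y) (G ⧸ C)) → Quotient (orbitRel (zpowers y) (G ⧸ C)) :=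
    Quotient.map (fun p => z • p) fun a b h => by
      obtain ⟨⟨c, hc⟩, hcab⟩ := orbitRel_apply.1 h
      refine orbitRel_apply.2 ⟨⟨c, hc⟩, ?_⟩
      obtain ⟨i, rfl⟩ := hc
      show y ^ i • (z • b) = z • a
      rw [smul_smul, (hxz.zpow_left i).eq, ← smul_smul]
      exact congrArg (z • ·) hcab
  let f : Quotient (orbitRel (zpowers y) (G ⧸ C)) → A := fun q => orbitVal χ y q.out.out
  have hf : ∀ g : G, f (Quotient.mk'' ((g : G) : G ⧸ C)) = orbitVal χ y g := by
    intro g
    obtain ⟨⟨c, hc⟩, hcg⟩ := orbitRel_apply.1 (Quotient.exact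
      (Quotient.out_eq (Quotient.mk'' ((g : G) : G ⧸ C) : Quotient (orbitRel (zpowers y) (G ⧸ C)))))
    obtain ⟨i, rfl⟩ := hc
    set o := (Quotient.mk'' ((g : G) : G ⧸ C) : Quotient (orbitRel (zpowers y) (G ⧸ C))).out with ho
    have hcg' : ((y ^ i * g : G) : G ⧸ C) = ((o.out : G) : G ⧸ C) := by
      rw [QuotientGroup.out_eq']; exact hcg
    show orbitVal χ y o.out = _
    rw [show o.out = y ^ i * g * ((y ^ i * g)⁻¹ * o.out) by group]
    exact orbitVal_mul χ ((Commute.refl y).zpow_right i) (QuotientGroup.eq.1 hcg')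
  have hσσ : ∀ q, σ (σ q) = q := fun q => by
    induction q using Quotient.inductionOn' with
    | h p => exact congrArg Quotient.mk'' (hzz p)
  have hfσ : ∀ q, f (σ q) = f q := fun q => by
    induction q using Quotient.inductionOn' with
    | h p =>
      induction p using QuotientGroup.induction_on with
      | H g =>
        show f (Quotient.mk'' ((z * g : G) : G ⧸ C)) = f (Quotient.mk'' ((g : G) : G ⧸ C))
        rw [hf, hf]
        simpa using orbitVal_mul χ (g := g) (h := 1) hxz C.one_mem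
  have hval : ∀ q, σ q = q → f q = if y • q.out = q.out then χ x else 1 := by
    intro q hq
    set g := q.out.out with hgdef
    have hgo : ((g : G) : G ⧸ C) = q.out := QuotientGroup.out_eq' _
    have hq' : z • q.out ∈ orbit (zpowers y) q.out := by
      refine orbitRel_apply.1 (Quotient.exact ?_)
      rw [← Quotient.out_eq q] at hq
      exact hq
    obtain ⟨⟨c, hc⟩, hci⟩ := hq'
    obtain ⟨i, rfl⟩ := hc
    change y ^ i • q.out = z • q.out at hci
    rw [← hgo] at hci ⊢
    show orbitVal χ y g = _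
    obtain ⟨k, hk⟩ := hper ((g : G) : G ⧸ C)
    by_cases hzg : z • ((g : G) : G ⧸ C) = ((g : G) : G ⧸ C)
    · have h1 : orbitVal χ y g = χ x ^ 2 ^ k := by
        rw [← map_pow]
        unfold orbitVal
        refine key g (x ^ 2 ^ k) _ ?_ (hfix g hzg)
        show g⁻¹ * y ^ minimalPeriod (y • ·) ((g : G) : G ⧸ C) * g = _
        rw [hk, Subgroup.coe_pow]
      rw [h1]
      split_ifs with h
      · have : minimalPeriod (y • ·) ((g : G) : G ⧸ C) ∣ 1 :=
          pow_smul_eq_iff_minimalPeriod_dvd.1 (by rw [pow_one]; exact h)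
        rw [← hk, Nat.dvd_one.1 this, pow_one]
      · rcases k with _ | k
        · exact absurd (by
            have := pow_smul_eq_iff_minimalPeriod_dvd.2 (dvd_refl (minimalPeriod (y • ·) ((g : G) : G ⧸ C)))
            rwa [hk, pow_zero, pow_one] at this) h
        · rw [pow_succ, pow_mul, sq, hA]
    · have hne : ¬ y • ((g : G) : G ⧸ C) = ((g : G) : G ⧸ C) := fun h => hzg (by
        rw [← hci]
        exact zpow_smul_eq_iff_minimalPeriod_dvd.2 (by
          rw [Nat.dvd_one.1 (pow_smul_eq_iff_minimalPeriod_dvd.1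
            (show y ^ 1 • ((g : G) : G ⧸ C) = _ by rw [pow_one]; exact h))]
          simp))
      rw [if_neg hne]
      set p := ((g : G) : G ⧸ C) with hp
      have hndvd : ¬ ((2 : ℤ) ^ k ∣ i) := fun h => hzg (by
        rw [← hci]
        exact zpow_smul_eq_iff_minimalPeriod_dvd.2 (by rw [hk]; exact_mod_cast h))
      have hdvd : (2 : ℤ) ^ k ∣ 2 * i := by
        have h2 : y ^ (2 * i) • p = p := by
          rw [two_mul, zpow_add, ← smul_smul, hci, smul_smul, (hxz.zpow_left i).eq, ← smul_smul,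
            hci, hzz]
        have h3 := zpow_smul_eq_iff_minimalPeriod_dvd.1 h2
        rw [hk] at h3
        exact_mod_cast h3
      obtain ⟨d, hd⟩ := hdvd
      have hdodd : Odd d := by
        rcases Int.even_or_odd d with ⟨e, rfl⟩ | h
        · exact absurd ⟨e, by linarith⟩ hndvd
        · exact h
      set u := (y ^ i)⁻¹ * z with hu
      have hu1 : g⁻¹ * u * g ∈ C := by
        rw [mul_assoc, ← QuotientGroup.eq]
        show p = u • p
        rw [hu, ← smul_smul, ← hci, inv_smul_smul]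
      have hm' : g⁻¹ * y ^ (2 ^ k : ℕ) * g ∈ C := by
        rw [mul_assoc, ← QuotientGroup.eq]
        exact (pow_smul_eq_iff_minimalPeriod_dvd.2 (dvd_of_eq hk)).symm
      have hv : orbitVal χ y g = χ ⟨_, hm'⟩ := congrArg χ (Subtype.ext (by
        show g⁻¹ * y ^ minimalPeriod (y • ·) p * g = g⁻¹ * y ^ (2 ^ k) * g
        rw [hk]))
      have huu : (⟨_, hu1⟩ : C) * ⟨_, hu1⟩ = (⟨_, hm'⟩ : C) ^ (-d) := Subtype.ext (by
        show g⁻¹ * u * g * (g⁻¹ * u * g) = ((⟨_, hm'⟩ : C) ^ (-d) : G)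
        push_cast
        have hc : Commute (y ^ i)⁻¹ z := (hxz.zpow_left i).inv_left
        have e1 : u * u = y ^ (-(2 * i)) := by
          rw [hu, ← mul_assoc, mul_assoc _ z, ← hc.eq, ← mul_assoc, mul_assoc, hz, mul_one,
            ← mul_inv_rev, ← zpow_add, ← two_mul, zpow_neg]
        have hconj : ∀ (a : G) (n : ℤ), (g⁻¹ * a * g) ^ n = g⁻¹ * a ^ n * g := fun a n => by
          simpa using conj_zpow (a := g⁻¹) (b := a) (i := n)
        calc g⁻¹ * u * g * (g⁻¹ * u * g) = g⁻¹ * (u * u) * g := by group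
          _ = _ := by
            rw [e1, hconj, hd, ← zpow_natCast, ← zpow_mul, mul_neg]
            push_cast
            rfl)
      obtain ⟨e, rfl⟩ := hdodd
      have h5 := congrArg χ huu
      rw [map_mul, hA, map_zpow, zpow_neg, zpow_add, zpow_mul, zpow_one, zpow_two, hA, one_zpow,
        one_mul, eq_comm, inv_eq_one] at h5
      rw [hv, h5]
  let Fx : Set (G ⧸ C) := {p | y • p = p ∧ z • p = p}
  have hcount : Odd (Nat.card Fx) := by
    set P := zpowers y ⊔ zpowers z with hP
    have hyP : IsPGroup 2 ↥(zpowers y) := fun w => by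
      refine ⟨m, ?_⟩
      obtain ⟨w, j, rfl⟩ := w
      exact Subtype.ext (show (y ^ j) ^ 2 ^ m = 1 by
        rw [← zpow_natCast, ← zpow_mul, mul_comm, zpow_mul, zpow_natCast, hx, one_zpow])
    have hzP : IsPGroup 2 ↥(zpowers z) := fun w => by
      refine ⟨1, ?_⟩
      obtain ⟨w, j, rfl⟩ := w
      exact Subtype.ext (show (z ^ j) ^ 2 ^ 1 = 1 by
        rw [← zpow_natCast, ← zpow_mul, mul_comm, zpow_mul, zpow_natCast, pow_one, pow_two, hz,
          one_zpow])
    have hn : zpowers z ≤ normalizer (zpowers y : Set G) := by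
      rw [zpowers_le]
      refine Set.mem_of_mem_of_subset (mem_centralizer_iff.2 ?_ : z ∈ centralizer (zpowers y : Set G))
        (centralizer_le_normalizer _)
      rintro _ ⟨j, rfl⟩
      exact (hxz.zpow_left j).eq
    have h2 := (hyP.to_sup_of_normal_left' hzP hn).card_modEq_card_fixedPoints (G ⧸ C)
    have hset : fixedPoints ↥P (G ⧸ C) = Fx := Set.ext fun p => by
      constructor
      · exact fun h => ⟨h ⟨y, le_sup_left (a := zpowers y) (mem_zpowers y)⟩,
          h ⟨z, le_sup_right (a := zpowers y) (mem_zpowers z)⟩⟩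
      · rintro ⟨h1, h2⟩ ⟨c, hc⟩
        have hle : P ≤ stabilizer G p := sup_le (zpowers_le.2 h1) (zpowers_le.2 h2)
        exact hle hc
    rw [hset] at h2
    rw [Nat.odd_iff, ← h2, ← Nat.odd_iff]
    exact hodd
  have hFx : (Finset.univ.filter fun q => σ q = q ∧ y • q.out = q.out).card = Nat.card Fx := by
    rw [Nat.card_eq_fintype_card, ← Fintype.card_coe]
    refine (Fintype.card_congr (Equiv.ofBijective (fun p : Fx =>
      (⟨Quotient.mk'' (p : G ⧸ C), ?_⟩ : {q // q ∈ Finset.univ.filter fun q =>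
        σ q = q ∧ y • q.out = q.out})) ⟨?_, ?_⟩)).symm
    · refine Finset.mem_filter.2 ⟨Finset.mem_univ _, congrArg Quotient.mk'' p.2.2, ?_⟩
      obtain ⟨⟨c, hc⟩, hcg⟩ := orbitRel_apply.1 (Quotient.exact (Quotient.out_eq
        (Quotient.mk'' (p : G ⧸ C) : Quotient (orbitRel (zpowers y) (G ⧸ C)))))
      obtain ⟨i, rfl⟩ := hc
      change y ^ i • (p : G ⧸ C) = _ at hcg
      rw [← hcg, smul_smul, ((Commute.refl y).zpow_right i).eq, ← smul_smul, p.2.1]
    · intro a b hab
      obtain ⟨⟨c, hc⟩, hcg⟩ := orbitRel_apply.1 (Quotient.exact (congrArg Subtype.val hab))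
      refine Subtype.ext ?_
      have hle : zpowers y ≤ stabilizer G (b : G ⧸ C) := zpowers_le.2 b.2.1
      exact hcg.symm.trans (hle hc)
    · rintro ⟨q, hq⟩
      obtain ⟨-, h1, h2⟩ := Finset.mem_filter.1 hq
      refine ⟨⟨q.out, h2, ?_⟩, Subtype.ext (Quotient.out_eq q)⟩
      obtain ⟨⟨c, hc⟩, hcg⟩ := orbitRel_apply.1 (Quotient.exact
        (show (⟦z • q.out⟧ : Quotient (orbitRel (zpowers y) (G ⧸ C))) = ⟦q.out⟧ by
          rw [← Quotient.out_eq q] at h1; rw [Quotient.out_eq q]; exact h1.trans (Quotient.out_eq q)))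
      have hle : zpowers y ≤ stabilizer G q.out := zpowers_le.2 h2
      exact hcg.symm.trans (hle hc)
  rw [MonoidHom.transfer_eq_prod_quotient_orbitRel_zpowers_quot]
  rw [Finset.prod_congr rfl (g := f) fun q _ => congrArg χ (Subtype.ext (by
    show q.out.out⁻¹ * y ^ minimalPeriod (y • ·) q.out * q.out.out =
      q.out.out⁻¹ * y ^ minimalPeriod (y • ·) ((q.out.out : G) : G ⧸ C) * q.out.out
    rw [QuotientGroup.out_eq']))]
  rw [← Finset.prod_filter_mul_prod_filter_not Finset.univ (fun q => σ q = q)]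
  have h1 : ∏ q ∈ Finset.univ.filter (fun q => ¬ σ q = q), f q = 1 :=
    Finset.prod_involution (fun q _ => σ q) (fun q _ => by rw [hfσ, hA]) (fun q hq _ =>
      (Finset.mem_filter.1 hq).2) (fun q hq => Finset.mem_filter.2 ⟨Finset.mem_univ _, by
        rw [hσσ]; exact fun h => (Finset.mem_filter.1 hq).2 h.symm⟩) (fun q _ => hσσ q)
  rw [h1, mul_one, Finset.prod_congr rfl fun q hq => hval q (Finset.mem_filter.1 hq).2,
    Finset.prod_ite, Finset.prod_const_one, mul_one, Finset.prod_const, Finset.filter_filter, hFx]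
  obtain ⟨e, he⟩ := hcount
  rw [he, pow_succ, pow_mul, sq, hA, one_pow, one_mul]

/-- The subgroup of index two. -/
theorem exists_index_two_inf [Finite G] {z : G} (hz : z * z = 1)
    (H₁ : Subgroup (centralizer ({z} : Set G))) (hidx : H₁.index = 2)
    (hodd : Odd (centralizer ({z} : Set G)).index)
    (key : ∀ (g : G) (h h' : centralizer ({z} : Set G)), (h' : G) = g⁻¹ * (h : G) * g →
      Commute z (g * z * g⁻¹) → (h' ∈ H₁ ↔ h ∈ H₁)) :
    ∃ G₀ : Subgroup G, G₀.index = 2 ∧
      centralizer ({z} : Set G) ⊓ G₀ = H₁.map (centralizer ({z} : Set G)).subtype := by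
  classical
  let ε : Multiplicative (ZMod 2) := Multiplicative.ofAdd 1
  have hε : ε ≠ 1 := by decide
  have hA : ∀ a : Multiplicative (ZMod 2), a * a = 1 := by decide
  let χ : centralizer ({z} : Set G) →* Multiplicative (ZMod 2) :=
    MonoidHom.mk' (fun h => if h ∈ H₁ then 1 else ε) fun a b => by
      have := Subgroup.mul_mem_iff_of_index_two hidx (a := a) (b := b)
      by_cases ha : a ∈ H₁ <;> by_cases hb : b ∈ H₁ <;> simp_all
      exact (hA 1).symm
  have hχ : ∀ h, χ h = 1 ↔ h ∈ H₁ := fun h => by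
    show (if h ∈ H₁ then (1 : Multiplicative (ZMod 2)) else ε) = 1 ↔ _
    split_ifs with h1 <;> simp [h1, hε]
  have hkey : ∀ (g : G) (h h' : centralizer ({z} : Set G)), (h' : G) = g⁻¹ * (h : G) * g →
      Commute z (g * z * g⁻¹) → χ h' = χ h := fun g h h' e c => by
    show (if h' ∈ H₁ then (1 : Multiplicative (ZMod 2)) else ε) = if h ∈ H₁ then 1 else ε
    rw [if_congr (key g h h' e c) rfl rfl]
  haveI : (centralizer ({z} : Set G)).FiniteIndex := ⟨index_ne_zero_of_finite⟩
  set τ := MonoidHom.transfer χ with hτ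
  have hh : ∀ h : centralizer ({z} : Set G), τ (h : G) = χ h := by
    intro h
    obtain ⟨m, o, ho, hm⟩ := Nat.exists_eq_two_pow_mul_odd (orderOf_pos h).ne'
    have h1 := transfer_eq_self hA hz (fun _ => mem_centralizer_singleton_iff) χ hodd hkey (h ^ o) (m := m) (by
      rw [← Subgroup.coe_pow, ← pow_mul, mul_comm, ← hm, pow_orderOf_eq_one]; rfl)
    rw [map_pow, Subgroup.coe_pow, map_pow] at h1
    obtain ⟨e, rfl⟩ := ho
    rwa [pow_succ, pow_mul, sq, hA, one_pow, one_mul, pow_succ, pow_mul, sq, hA, one_pow,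
      one_mul] at h1
  obtain ⟨a, ha⟩ : ∃ a, a ∉ H₁ := by
    by_contra hc
    push Not at hc
    rw [(Subgroup.eq_top_iff' H₁).2 hc, Subgroup.index_top] at hidx
    norm_num at hidx
  refine ⟨τ.ker, ?_, ?_⟩
  · rw [Subgroup.index_ker]
    have hs : τ.range = ⊤ := (Subgroup.eq_top_iff' _).2 fun b => by
      have hb : ∀ b : Multiplicative (ZMod 2), b = 1 ∨ b = ε := by decide
      rcases hb b with rfl | rfl
      · exact one_mem _
      · exact ⟨a, by rw [hh]; exact ((hb _).resolve_left fun h => ha ((hχ a).1 h))⟩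
    rw [hs]
    simp
  · ext g
    constructor
    · rintro ⟨hg, hk⟩
      exact ⟨⟨g, hg⟩, (hχ _).1 ((hh ⟨g, hg⟩).symm.trans hk), rfl⟩
    · rintro ⟨h, hh1, rfl⟩
      exact ⟨h.2, (hh h).trans ((hχ h).2 hh1)⟩

end CfsgLib.U62Cent
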